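import Groth.Prelude.Def_Cyc
import Groth.Agent.Lib.Helper26.CatOrder3
import Mathlib.AlgebraicGeometry.Stalk
import Mathlib.AlgebraicGeometry.FunctionField

/-! Dimension of local rings in terms of a dimension function. -/

set_option autoImplicit false

namespace Groth.Agent.Lib.Helper24.StalkDim

open AlgebraicGeometry IsLocalRing Groth.Agent.Lib.Helper26.CatOrder

universe u

variable {X : Scheme.{u}} (δ : X → ℤ)

theorem specializes_map (ξ : X) {p q : PrimeSpectrum (X.presheaf.stalk ξ)} (hpq : p ≤ q) :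
    X.fromSpecStalk ξ p ⤳ X.fromSpecStalk ξ q :=
  ((PrimeSpectrum.le_iff_specializes p q).1 hpq).map (X.fromSpecStalk ξ).continuous

theorem hmono (hδ : Cyc.IsDimFun X δ) (ξ : X) (p q : PrimeSpectrum (X.presheaf.stalk ξ))
    (hpq : p < q) : δ (X.fromSpecStalk ξ q) < δ (X.fromSpecStalk ξ p) := by
  have hne : X.fromSpecStalk ξ p ≠ X.fromSpecStalk ξ q :=
    fun h => hpq.ne ((X.fromSpecStalk ξ).isEmbedding.injective h)
  exact (hδ _ _ (specializes_map ξ hpq.le) hne).1

theorem hcov (hδ : Cyc.IsDimFun X δ) (ξ : X) (p q : PrimeSpectrum (X.presheaf.stalk ξ))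
    (hpq : p ⋖ q) : δ (X.fromSpecStalk ξ p) = δ (X.fromSpecStalk ξ q) + 1 := by
  have hne : X.fromSpecStalk ξ p ≠ X.fromSpecStalk ξ q :=
    fun h => hpq.lt.ne ((X.fromSpecStalk ξ).isEmbedding.injective h)
  refine (hδ _ _ (specializes_map ξ hpq.le) hne).2 fun z hz1 hz2 => ?_
  have hq : X.fromSpecStalk ξ q ⤳ ξ := by
    have : X.fromSpecStalk ξ q ∈ Set.range (X.fromSpecStalk ξ) := Set.mem_range_self q
    rw [Scheme.range_fromSpecStalk] at this
    exact this
  have hz : z ∈ Set.range (X.fromSpecStalk ξ) := by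
    rw [Scheme.range_fromSpecStalk]
    exact hz2.trans hq
  obtain ⟨r, rfl⟩ := hz
  rw [(X.fromSpecStalk ξ).isEmbedding.isInducing.specializes_iff] at hz1 hz2
  have hz1' : @LE.le (PrimeSpectrum (X.presheaf.stalk ξ)) _ p r :=
    (PrimeSpectrum.le_iff_specializes _ _).2 hz1
  have hz2' : @LE.le (PrimeSpectrum (X.presheaf.stalk ξ)) _ r q :=
    (PrimeSpectrum.le_iff_specializes _ _).2 hz2
  rcases hpq.eq_or_eq hz1' hz2' with h | h
  · exact Or.inl (by rw [h])
  · exact Or.inr (by rw [h])

theorem ringKrullDim_stalk_eq [IsIntegral X] (hδ : Cyc.IsDimFun X δ) (ξ : X) :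
    ∃ n : ℕ, ringKrullDim (X.presheaf.stalk ξ) = n ∧ (n : ℤ) = δ (genericPoint X) - δ ξ := by
  let d : PrimeSpectrum (X.presheaf.stalk ξ) → ℤ := fun p => - δ (X.fromSpecStalk ξ p)
  have hmono' : ∀ a b : PrimeSpectrum (X.presheaf.stalk ξ), a < b → d a < d b := by
    intro a b hab
    have := hmono δ hδ ξ a b hab
    show - δ _ < - δ _
    omega
  have hmono'' : ∀ a b : PrimeSpectrum (X.presheaf.stalk ξ), a ≤ b → d a ≤ d b := by
    intro a b hab
    rcases eq_or_lt_of_le hab with h | h
    · rw [h]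
    · exact (hmono' a b h).le
  have hcov' : ∀ a b : PrimeSpectrum (X.presheaf.stalk ξ), a ⋖ b → d b = d a + 1 := by
    intro a b hab
    have := hcov δ hδ ξ a b hab
    show - δ _ = - δ _ + 1
    omega
  have hle : ∀ p : PrimeSpectrum (X.presheaf.stalk ξ), p ≤ closedPoint (X.presheaf.stalk ξ) :=
    fun p => (PrimeSpectrum.le_iff_specializes _ _).2 (specializes_closedPoint p)
  obtain ⟨s, hs1, hs2, hs3, -⟩ := exists_max (a := (⊥ : PrimeSpectrum (X.presheaf.stalk ξ)))
    (b := closedPoint (X.presheaf.stalk ξ)) bot_le (cod_ne_top_of_mono hmono')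
  have e1 := length_eq_of_sat d hcov' s.length s rfl hs3
  rw [hs1, hs2] at e1
  have hb : X.fromSpecStalk ξ (closedPoint (X.presheaf.stalk ξ)) = ξ :=
    Scheme.fromSpecStalk_closedPoint
  have ha : X.fromSpecStalk ξ (⊥ : PrimeSpectrum (X.presheaf.stalk ξ)) = genericPoint X := by
    have h1 : genericPoint X ⤳ X.fromSpecStalk ξ (⊥ : PrimeSpectrum (X.presheaf.stalk ξ)) :=
      genericPoint_specializes _
    have hη : genericPoint X ∈ Set.range (X.fromSpecStalk ξ) := by
      rw [Scheme.range_fromSpecStalk]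
      exact genericPoint_specializes ξ
    obtain ⟨r, hr⟩ := hη
    have h2 : X.fromSpecStalk ξ (⊥ : PrimeSpectrum (X.presheaf.stalk ξ)) ⤳ genericPoint X := by
      rw [← hr]
      exact specializes_map ξ bot_le
    exact (h2.antisymm h1).eq
  have e2 : d (closedPoint (X.presheaf.stalk ξ)) = - δ ξ := by
    show - δ _ = _
    rw [hb]
  have e3 : d (⊥ : PrimeSpectrum (X.presheaf.stalk ξ)) = - δ (genericPoint X) := by
    show - δ _ = _
    rw [ha]
  refine ⟨s.length, ?_, by omega⟩
  apply le_antisymm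
  · show Order.krullDim _ ≤ _
    unfold Order.krullDim
    apply iSup_le
    intro t
    have h1 := length_le_of_mono d hmono' t.length t rfl
    have h2 := hmono'' ⊥ t.head bot_le
    have h3 := hmono'' t.last _ (hle t.last)
    have : t.length ≤ s.length := by omega
    exact_mod_cast this
  · exact Order.LTSeries.length_le_krullDim s

end Groth.Agent.Lib.Helper24.StalkDim
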