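import Mathlib.AlgebraicGeometry.Stalk
import Mathlib.AlgebraicGeometry.Properties
import Mathlib.AlgebraicGeometry.AffineScheme
import Mathlib.Topology.Irreducible
import Mathlib.Topology.Sober

/-! Irreducible components of schemes whose local rings are domains. -/

set_option autoImplicit false

namespace Groth.Agent.Lib.Helper24.NormalComponents

open AlgebraicGeometry Topology TopologicalSpace

universe u

/-- Two irreducible closed sets through a point with integral local ring lie in a common
irreducible closed set. -/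
theorem exists_irreducible_superset (X : Scheme.{u}) (x : X) [IsDomain (X.presheaf.stalk x)] :
    ∃ W : Set X, IsIrreducible W ∧ IsClosed W ∧
      ∀ T : Set X, IsIrreducible T → IsClosed T → x ∈ T → T ⊆ W := by
  refine ⟨closure {X.fromSpecStalk x (⊥ : PrimeSpectrum (X.presheaf.stalk x))},
    isIrreducible_singleton.closure, isClosed_closure, fun T hT hTc hxT => ?_⟩
  have hgen : closure {hT.genericPoint} = T := hT.closure_genericPoint hTc
  have hspec : hT.genericPoint ⤳ x := by
    rw [specializes_iff_mem_closure, hgen]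
    exact hxT
  have hmem : hT.genericPoint ∈ Set.range (X.fromSpecStalk x) := by
    rw [Scheme.range_fromSpecStalk]
    exact hspec
  obtain ⟨p, hp⟩ := hmem
  have h1 : X.fromSpecStalk x (⊥ : PrimeSpectrum (X.presheaf.stalk x)) ⤳ X.fromSpecStalk x p :=
    ((PrimeSpectrum.le_iff_specializes (⊥ : PrimeSpectrum (X.presheaf.stalk x)) p).1
      (show @LE.le (PrimeSpectrum (X.presheaf.stalk x)) _ ⊥ p from bot_le)).map
      (X.fromSpecStalk x).continuous
  rw [hp] at h1
  rw [← hgen]
  exact specializes_iff_closure_subset.1 h1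

theorem main (X : Scheme.{u})
    (hfin : ∀ U : X.Opens, IsCompact (U : Set X) → (irreducibleComponents ↥U).Finite)
    (hdom : ∀ x : X, IsDomain (X.presheaf.stalk x)) :
    (∀ Z ∈ irreducibleComponents X, IsOpen Z) ∧
      ∀ Z ∈ irreducibleComponents X, ∀ Z' ∈ irreducibleComponents X, Z ≠ Z' → Disjoint Z Z' := by
  have hdisj : ∀ Z ∈ irreducibleComponents X, ∀ Z' ∈ irreducibleComponents X,
      ∀ x, x ∈ Z → x ∈ Z' → Z = Z' := by
    intro Z hZ Z' hZ' x hxZ hxZ'
    haveI := hdom x
    obtain ⟨W, hW, -, hWsub⟩ := exists_irreducible_superset X x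
    have h1 := hWsub Z hZ.1 (isClosed_of_mem_irreducibleComponents Z hZ) hxZ
    have h2 := hWsub Z' hZ'.1 (isClosed_of_mem_irreducibleComponents Z' hZ') hxZ'
    have e1 : W = Z := Set.Subset.antisymm (hZ.2 hW h1) h1
    have e2 : W = Z' := Set.Subset.antisymm (hZ'.2 hW h2) h2
    rw [← e1, e2]
  refine ⟨fun Z hZ => ?_, fun Z hZ Z' hZ' hne => ?_⟩
  · rw [isOpen_iff_mem_nhds]
    intro x hxZ
    obtain ⟨U, hU, hxU, -⟩ := exists_isAffineOpen_mem_and_subset (x := x) (U := ⊤) trivial
    have hUfin := hfin U hU.isCompact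
    have hC : (Subtype.val : U → X) ⁻¹' Z ∈ irreducibleComponents ↥U :=
      preimage_mem_irreducibleComponents hZ U.isOpenEmbedding'
        ⟨x, hxZ, ⟨⟨x, hxU⟩, rfl⟩⟩
    -- the union of the other components
    have hKclosed : IsClosed (⋃₀ (irreducibleComponents ↥U \ {(Subtype.val : U → X) ⁻¹' Z})) := by
      rw [Set.sUnion_eq_biUnion]
      exact hUfin.sdiff.isClosed_biUnion
        fun W hW => isClosed_of_mem_irreducibleComponents W hW.1
    have hCeq : (Subtype.val : U → X) ⁻¹' Z =
        (⋃₀ (irreducibleComponents ↥U \ {(Subtype.val : U → X) ⁻¹' Z}))ᶜ := by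
      ext y
      constructor
      · intro hy hyK
        obtain ⟨C', ⟨hC', hne⟩, hyC'⟩ := hyK
        apply hne
        -- both closures lie in a common irreducible closed set
        haveI := hdom y.1
        obtain ⟨W, hW, hWc, hWsub⟩ := exists_irreducible_superset X y.1
        have hC'cl : IsClosed C' := isClosed_of_mem_irreducibleComponents C' hC'
        have h1 : closure (Subtype.val '' C') ⊆ W :=
          hWsub _ (hC'.1.image _ continuous_subtype_val.continuousOn).closure isClosed_closure
            (subset_closure ⟨y, hyC', rfl⟩)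
        have h2 : Z ⊆ W := hWsub Z hZ.1 (isClosed_of_mem_irreducibleComponents Z hZ) hy
        have hWU : IsIrreducible ((Subtype.val : U → X) ⁻¹' W) :=
          hW.preimage U.isOpenEmbedding' ⟨y.1, h2 hy, ⟨y, rfl⟩⟩
        have h3 : C' ⊆ (Subtype.val : U → X) ⁻¹' W :=
          fun c hc => h1 (subset_closure ⟨c, hc, rfl⟩)
        have h4 : (Subtype.val : U → X) ⁻¹' Z ⊆ (Subtype.val : U → X) ⁻¹' W :=
          Set.preimage_mono h2
        have e1 : (Subtype.val : U → X) ⁻¹' W = C' := Set.Subset.antisymm (hC'.2 hWU h3) h3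
        have e2 : (Subtype.val : U → X) ⁻¹' W = (Subtype.val : U → X) ⁻¹' Z :=
          Set.Subset.antisymm (hC.2 hWU h4) h4
        rw [Set.mem_singleton_iff, ← e1, e2]
      · intro hy
        have hyU : y ∈ ⋃₀ irreducibleComponents ↥U := by
          rw [sUnion_irreducibleComponents]
          trivial
        obtain ⟨C', hC', hyC'⟩ := hyU
        by_cases heq : C' = (Subtype.val : U → X) ⁻¹' Z
        · rw [← heq]
          exact hyC'
        · exact absurd ⟨C', ⟨hC', heq⟩, hyC'⟩ hy
    have hCopen : IsOpen ((Subtype.val : U → X) ⁻¹' Z) := by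
      rw [hCeq]
      exact hKclosed.isOpen_compl
    have hopen : IsOpen (Subtype.val '' ((Subtype.val : U → X) ⁻¹' Z)) :=
      U.isOpenEmbedding'.isOpenMap _ hCopen
    refine Filter.mem_of_superset (hopen.mem_nhds ⟨⟨x, hxU⟩, hxZ, rfl⟩) ?_
    rintro _ ⟨y, hy, rfl⟩
    exact hy
  · rw [Set.disjoint_left]
    intro x hxZ hxZ'
    exact hne (hdisj Z hZ Z' hZ' x hxZ hxZ')

end Groth.Agent.Lib.Helper24.NormalComponents
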