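import Groth.Agent.Lib.Helper24.Cat.SchemeCat

/-! Catenary schemes and their local rings. -/

set_option autoImplicit false

namespace Groth.Agent.Lib.Helper24.CatStalks

open AlgebraicGeometry Topology

universe u

theorem catenary_of_isLocalization {A : Type u} [CommRing A] (M : Submonoid A) (B : Type u)
    [CommRing B] [Algebra A B] [IsLocalization M B] (h : CAlg.IsCatenary A) :
    CAlg.IsCatenary B :=
  CatOrd.of_orderEmbedding (locOrderEmbedding M B) (ordConnected_range_locOrderEmbedding M B) h

theorem catenary_of_localizations (A : Type u) [CommRing A]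
    (H : ∀ q : PrimeSpectrum A, ∃ (B : Type u) (_ : CommRing B) (_ : Algebra A B),
      IsLocalization.AtPrime B q.asIdeal ∧ CAlg.IsCatenary B) : CAlg.IsCatenary A := by
  rw [isCatenary_iff_catOrd]
  apply CatOrd.of_cover
  intro p q hpq
  obtain ⟨B, _, _, hloc, hB⟩ := H q
  haveI : IsLocalization q.asIdeal.primeCompl B := hloc
  have hq : q ∈ Set.range (locOrderEmbedding q.asIdeal.primeCompl B) := by
    rw [range_locOrderEmbedding]
    show Disjoint _ _
    rw [Set.disjoint_left]
    intro a ha haq
    exact ha haq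
  refine ⟨PrimeSpectrum B, inferInstance, locOrderEmbedding q.asIdeal.primeCompl B,
    ordConnected_range_locOrderEmbedding _ _, hB, ?_, hq⟩
  rw [range_locOrderEmbedding] at hq ⊢
  exact Set.disjoint_of_subset_right (show (p.asIdeal : Set A) ⊆ q.asIdeal from hpq) hq

theorem main (X : Scheme.{u}) :
    PtTop.IsCatenarySpace X ↔ ∀ x : X, CAlg.IsCatenary (X.presheaf.stalk x) := by
  constructor
  · intro h x
    obtain ⟨U, hxU⟩ := CatScheme.exists_affine X x
    have hU := CatScheme.affine_of_space X h U
    letI : Algebra Γ(X, U.1) (X.presheaf.stalk x) :=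
      TopCat.Presheaf.algebra_section_stalk X.presheaf ⟨x, hxU⟩
    haveI : IsLocalization.AtPrime (X.presheaf.stalk x) (U.2.primeIdealOf ⟨x, hxU⟩).asIdeal :=
      IsAffineOpen.isLocalization_stalk (U := U.1) U.2 ⟨x, hxU⟩
    exact catenary_of_isLocalization (U.2.primeIdealOf ⟨x, hxU⟩).asIdeal.primeCompl
      (X.presheaf.stalk x) hU
  · intro H
    apply CatScheme.space_of_cover
    intro s
    obtain ⟨U, hsU⟩ := CatScheme.exists_affine X s
    refine ⟨U, hsU, catenary_of_localizations _ fun q => ?_⟩
    have hy : U.2.fromSpec q ∈ U.1 := by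
      have := IsAffineOpen.range_fromSpec (U := U.1) U.2
      have h2 : U.2.fromSpec q ∈ Set.range U.2.fromSpec := Set.mem_range_self q
      rw [this] at h2
      exact h2
    exact ⟨X.presheaf.stalk (U.2.fromSpec q), inferInstance,
      TopCat.Presheaf.algebra_section_stalk X.presheaf ⟨U.2.fromSpec q, hy⟩,
      U.2.isLocalization_stalk' q hy, H _⟩

end Groth.Agent.Lib.Helper24.CatStalks
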