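import Groth.Agent.Lib.Helper24.Loc.EssFTCatenary
import Mathlib.RingTheory.RingHom.FiniteType

/-! Universal catenarity is local on the maximal spectrum. -/

set_option autoImplicit false

namespace Groth.Agent.Lib.Helper24.UCLocal

universe u

open CAlg PrimeSpectrum

theorem finiteType_loc (R : Type u) [CommRing R] (S : Type u) [CommRing S] [Algebra R S]
    (hS : Algebra.FiniteType R S) (M : Submonoid R) :
    Algebra.FiniteType (Localization M) (Localization (Algebra.algebraMapSubmonoid S M)) := by
  haveI : IsLocalization (Submonoid.map (algebraMap R S) M)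
      (Localization (Algebra.algebraMapSubmonoid S M)) :=
    inferInstanceAs (IsLocalization (Algebra.algebraMapSubmonoid S M) _)
  have h := RingHom.finiteType_localizationPreserves (algebraMap R S) M (Localization M)
    (Localization (Algebra.algebraMapSubmonoid S M)) (RingHom.finiteType_algebraMap.mpr hS)
  exact RingHom.finiteType_algebraMap.mp h

/-- If all localizations of `R` at a family of primes covering every prime are universally
catenary then every finite type algebra is catenary. -/
theorem catenary_of_local (R : Type u) [CommRing R] (S : Type u) [CommRing S] [Algebra R S]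
    (hS : Algebra.FiniteType R S)
    (H : ∀ q : PrimeSpectrum S, ∃ (m : Ideal R) (_ : m.IsPrime),
      q.asIdeal.comap (algebraMap R S) ≤ m ∧ CAlg.IsUniversallyCatenary (Localization.AtPrime m)) :
    CAlg.IsCatenary S := by
  rw [isCatenary_iff_catOrd]
  apply CatOrd.of_cover
  intro p q hpq
  obtain ⟨m, hm, hle, hUC⟩ := H q
  haveI := hm
  have hft := finiteType_loc R S hS m.primeCompl
  have hcat : CAlg.IsCatenary (Localization (Algebra.algebraMapSubmonoid S m.primeCompl)) :=
    hUC.2 _ hft
  have hq : q ∈ Set.range (locOrderEmbedding (Algebra.algebraMapSubmonoid S m.primeCompl)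
      (Localization (Algebra.algebraMapSubmonoid S m.primeCompl))) := by
    rw [range_locOrderEmbedding]
    show Disjoint _ _
    rw [Set.disjoint_left]
    rintro _ ⟨r, hr, rfl⟩ hrq
    exact hr (hle hrq)
  refine ⟨_, inferInstance, locOrderEmbedding (Algebra.algebraMapSubmonoid S m.primeCompl)
      (Localization (Algebra.algebraMapSubmonoid S m.primeCompl)),
    ordConnected_range_locOrderEmbedding _ _, hcat, ?_, hq⟩
  rw [range_locOrderEmbedding] at hq ⊢
  exact Set.disjoint_of_subset_right (show (p.asIdeal : Set S) ⊆ q.asIdeal from hpq) hq

theorem main (R : Type u) [CommRing R] [IsNoetherianRing R] :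
    CAlg.IsUniversallyCatenary R ↔
      ∀ (m : Ideal R) [m.IsMaximal], CAlg.IsUniversallyCatenary (Localization.AtPrime m) := by
  constructor
  · intro h m _
    exact EssFTCat.main R (Localization.AtPrime m) h
  · intro H
    refine ⟨inferInstance, fun S _ _ hS => ?_⟩
    apply catenary_of_local R S hS
    intro q
    have hne : (q.asIdeal.comap (algebraMap R S)) ≠ ⊤ := Ideal.IsPrime.ne_top inferInstance
    obtain ⟨m, hm, hle⟩ := Ideal.exists_le_maximal _ hne
    exact ⟨m, hm.isPrime, hle, @H m hm⟩

end Groth.Agent.Lib.Helper24.UCLocal
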