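import Groth.Agent.Lib.Helper24.Cat.Stalks
import Groth.Agent.Lib.Helper24.Cat.UCLocal
import Mathlib.AlgebraicGeometry.Noetherian
import Mathlib.AlgebraicGeometry.Morphisms.FiniteType

/-! Universally catenary schemes and their local rings. -/

set_option autoImplicit false

namespace Groth.Agent.Lib.Helper24.UCScheme

open AlgebraicGeometry Topology CategoryTheory

universe u

/-- Universal catenarity transfers along ring isomorphisms. -/
theorem uc_of_ringEquiv {A B : Type u} [CommRing A] [CommRing B] (e : A ≃+* B)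
    (h : CAlg.IsUniversallyCatenary A) : CAlg.IsUniversallyCatenary B := by
  letI : Algebra A B := e.toRingHom.toAlgebra
  haveI : Algebra.FiniteType A B :=
    Algebra.FiniteType.of_surjective (Algebra.ofId A B) e.surjective
  exact EssFTCat.main A B h

theorem uc_of_localizations (R : Type u) [CommRing R] [IsNoetherianRing R]
    (H : ∀ q : PrimeSpectrum R, ∃ (B : Type u) (_ : CommRing B) (_ : Algebra R B),
      IsLocalization.AtPrime B q.asIdeal ∧ CAlg.IsUniversallyCatenary B) :
    CAlg.IsUniversallyCatenary R := by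
  refine ⟨inferInstance, fun T _ _ hT => ?_⟩
  apply UCLocal.catenary_of_local R T hT
  intro q
  obtain ⟨B, _, _, hloc, hB⟩ := H (PrimeSpectrum.comap (algebraMap R T) q)
  refine ⟨(PrimeSpectrum.comap (algebraMap R T) q).asIdeal, inferInstance, le_rfl, ?_⟩
  haveI : IsLocalization (PrimeSpectrum.comap (algebraMap R T) q).asIdeal.primeCompl B := hloc
  exact uc_of_ringEquiv (IsLocalization.algEquiv
    (PrimeSpectrum.comap (algebraMap R T) q).asIdeal.primeCompl B
    (Localization.AtPrime (PrimeSpectrum.comap (algebraMap R T) q).asIdeal)).toRingEquiv hB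

/-- Sections over an affine open of a locally Noetherian scheme with universally catenary local
rings form a universally catenary ring. -/
theorem uc_sections (S : Scheme.{u}) [IsLocallyNoetherian S]
    (H : ∀ s : S, CAlg.IsUniversallyCatenary (S.presheaf.stalk s)) (U : S.affineOpens) :
    CAlg.IsUniversallyCatenary Γ(S, U) := by
  haveI : IsNoetherianRing Γ(S, U) := IsLocallyNoetherian.component_noetherian U
  apply uc_of_localizations
  intro q
  have hy : U.2.fromSpec q ∈ U.1 := by
    have := IsAffineOpen.range_fromSpec (U := U.1) U.2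
    have h2 : U.2.fromSpec q ∈ Set.range U.2.fromSpec := Set.mem_range_self q
    rw [this] at h2
    exact h2
  exact ⟨S.presheaf.stalk (U.2.fromSpec q), inferInstance,
    TopCat.Presheaf.algebra_section_stalk S.presheaf ⟨U.2.fromSpec q, hy⟩,
    U.2.isLocalization_stalk' q hy, H _⟩

theorem backward (S : Scheme.{u}) [IsLocallyNoetherian S]
    (H : ∀ s : S, CAlg.IsUniversallyCatenary (S.presheaf.stalk s))
    (X : Scheme.{u}) (f : X ⟶ S) (hf : LocallyOfFiniteType f) : PtTop.IsCatenarySpace X := by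
  apply CatScheme.space_of_cover
  intro x
  obtain ⟨U, hxU⟩ := CatScheme.exists_affine S (f x)
  obtain ⟨V, hV, hxV, hVU⟩ := exists_isAffineOpen_mem_and_subset (x := x) (U := f ⁻¹ᵁ U.1) hxU
  have e : V ≤ f ⁻¹ᵁ U.1 := hVU
  refine ⟨⟨V, hV⟩, hxV, ?_⟩
  have hft : (f.appLE U.1 V e).hom.FiniteType := hf.finiteType_appLE U.2 hV e
  have hUC := uc_sections S H U
  letI : Algebra Γ(S, U.1) Γ(X, V) := (f.appLE U.1 V e).hom.toAlgebra
  exact hUC.2 Γ(X, V) hft

theorem forward (S : Scheme.{u}) [IsLocallyNoetherian S]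
    (H : ∀ (X : Scheme.{u}) (f : X ⟶ S), LocallyOfFiniteType f → PtTop.IsCatenarySpace X)
    (s : S) : CAlg.IsUniversallyCatenary (S.presheaf.stalk s) := by
  refine ⟨inferInstance, fun B _ _ hB => ?_⟩
  obtain ⟨U, hsU⟩ := CatScheme.exists_affine S s
  letI : Algebra Γ(S, U.1) (S.presheaf.stalk s) :=
    TopCat.Presheaf.algebra_section_stalk S.presheaf ⟨s, hsU⟩
  haveI hloc : IsLocalization.AtPrime (S.presheaf.stalk s) (U.2.primeIdealOf ⟨s, hsU⟩).asIdeal :=
    IsAffineOpen.isLocalization_stalk (U := U.1) U.2 ⟨s, hsU⟩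
  letI : Algebra Γ(S, U.1) B :=
    ((algebraMap (S.presheaf.stalk s) B).comp (algebraMap Γ(S, U.1) (S.presheaf.stalk s))).toAlgebra
  haveI : IsScalarTower Γ(S, U.1) (S.presheaf.stalk s) B :=
    IsScalarTower.of_algebraMap_eq (fun _ => rfl)
  haveI : Algebra.EssFiniteType Γ(S, U.1) (S.presheaf.stalk s) :=
    Algebra.EssFiniteType.of_isLocalization _ (U.2.primeIdealOf ⟨s, hsU⟩).asIdeal.primeCompl
  haveI : Algebra.FiniteType (S.presheaf.stalk s) B := hB
  haveI : Algebra.EssFiniteType Γ(S, U.1) B :=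
    Algebra.EssFiniteType.comp Γ(S, U.1) (S.presheaf.stalk s) B
  -- the finite type model
  have hft : Algebra.FiniteType Γ(S, U.1) (Algebra.EssFiniteType.subalgebra Γ(S, U.1) B) :=
    inferInstance
  have hlft : LocallyOfFiniteType
      (Spec.map (CommRingCat.ofHom (algebraMap Γ(S, U.1)
        (Algebra.EssFiniteType.subalgebra Γ(S, U.1) B))) ≫ U.2.fromSpec) := by
    haveI : LocallyOfFiniteType (Spec.map (CommRingCat.ofHom (algebraMap Γ(S, U.1)
        (Algebra.EssFiniteType.subalgebra Γ(S, U.1) B)))) := by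
      rw [HasRingHomProperty.Spec_iff (P := @LocallyOfFiniteType)]
      exact RingHom.finiteType_algebraMap.mpr hft
    infer_instance
  have hcat := H _ _ hlft
  have hcat' : CAlg.IsCatenary (Algebra.EssFiniteType.subalgebra Γ(S, U.1) B) :=
    (CatSpace.primeSpectrum_iff _).1 hcat
  exact CatStalks.catenary_of_isLocalization
    (Algebra.EssFiniteType.submonoid Γ(S, U.1) B) B hcat'

theorem main (S : Scheme.{u}) [IsLocallyNoetherian S] :
    (∀ (X : Scheme.{u}) (f : X ⟶ S), LocallyOfFiniteType f → PtTop.IsCatenarySpace X) ↔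
      ∀ s : S, CAlg.IsUniversallyCatenary (S.presheaf.stalk s) :=
  ⟨forward S, backward S⟩

end Groth.Agent.Lib.Helper24.UCScheme
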