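import Groth.Agent.Lib.Helper26.CatOrder3
import Groth.Agent.Lib.Helper26.CatOrder4
import Groth.Prelude.Def_W4stktopologysheavesDim
import Mathlib.Topology.KrullDimension

/-! Krull dimension of sub-posets in the presence of a dimension function. -/

set_option autoImplicit false

namespace Groth.Agent.Lib.Helper24.DimFunKrull

open Groth.Agent.Lib.Helper24 Groth.Agent.Lib.Helper26.CatOrder TopologicalSpace Topology

universe u v

theorem krullDim_eq_of_dimfun {P : Type u} {Q : Type v} [PartialOrder P] [PartialOrder Q]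
    (e : Q ↪o P) (d : P → ℤ)
    (hmono : ∀ a b : P, a < b → d a < d b) (hcov : ∀ a b : P, a ⋖ b → d b = d a + 1)
    (lo hi : ℤ) (hrange : ∀ q : Q, lo ≤ d (e q) ∧ d (e q) ≤ hi)
    (a b : P) (hab : a ≤ b) (hIcc : ∀ x, a ≤ x → x ≤ b → x ∈ Set.range e)
    (ha : d a = lo) (hb : d b = hi) :
    Order.krullDim Q = ((hi - lo).toNat : WithBot ℕ∞) := by
  apply le_antisymm
  · unfold Order.krullDim
    apply iSup_le
    intro t
    have h1 := length_le_of_mono d hmono (t.map e e.strictMono).length (t.map e e.strictMono) rfl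
    rw [LTSeries.head_map, LTSeries.last_map] at h1
    have h2 := (hrange t.head).1
    have h3 := (hrange t.last).2
    have h4 : (t.map e e.strictMono).length = t.length := rfl
    have : t.length ≤ (hi - lo).toNat := by omega
    exact_mod_cast this
  · obtain ⟨s, hs1, hs2, hs3, -⟩ := exists_max hab (cod_ne_top_of_mono hmono)
    have h1 := length_eq_of_sat d hcov s.length s rfl hs3
    rw [hs1, hs2] at h1
    obtain ⟨s', hlen, -⟩ := exists_lift_ltSeries e s (fun i => hIcc _
      (hs1 ▸ s.head_le i) (hs2 ▸ s.monotone (Fin.le_last i)))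
    have h2 : (hi - lo).toNat = s'.length := by omega
    rw [h2]
    exact Order.LTSeries.length_le_krullDim s'

section Irr

variable {X : Type u} [TopologicalSpace X] [QuasiSober X] [T0Space X]

/-- generic point of an irreducible closed set -/
noncomputable def gp (Z : IrreducibleCloseds X) : X := Z.isIrreducible'.genericPoint

theorem closure_gp (Z : IrreducibleCloseds X) : closure {gp Z} = (Z : Set X) :=
  Z.isIrreducible'.closure_genericPoint Z.isClosed'

theorem gp_spec {Z Z' : IrreducibleCloseds X} (h : Z ≤ Z') : gp Z' ⤳ gp Z := by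
  rw [specializes_iff_closure_subset, closure_gp, closure_gp]
  exact h

theorem gp_inj {Z Z' : IrreducibleCloseds X} (h : gp Z = gp Z') : Z = Z' := by
  apply SetLike.coe_injective
  rw [← closure_gp Z, ← closure_gp Z', h]

/-- the irreducible closed set `closure {x}` -/
def cl (x : X) : IrreducibleCloseds X :=
  ⟨closure {x}, isIrreducible_singleton.closure, isClosed_closure⟩

theorem gp_cl (x : X) : gp (cl x) = x :=
  IsGenericPoint.eq (closure_gp (cl x)) (rfl : closure {x} = (cl x : Set X))

theorem irr_hmono (δ : X → ℤ) (hδ : PtTop.IsDimensionFunction δ) (a b : IrreducibleCloseds X)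
    (hab : a < b) : δ (gp a) < δ (gp b) :=
  hδ.1 (gp b) (gp a) (gp_spec hab.le) (fun h => hab.ne (gp_inj h.symm))

theorem irr_hcov (δ : X → ℤ) (hδ : PtTop.IsDimensionFunction δ) (a b : IrreducibleCloseds X)
    (hab : a ⋖ b) : δ (gp b) = δ (gp a) + 1 := by
  apply hδ.2
  refine ⟨gp_spec hab.le, fun h => hab.lt.ne (gp_inj h.symm), fun z hz1 hz2 => ?_⟩
  have hW1 : a ≤ cl z := by
    show (a : Set X) ⊆ closure {z}
    rw [← closure_gp a]
    exact specializes_iff_closure_subset.1 hz2
  have hW2 : cl z ≤ b := by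
    show closure {z} ⊆ (b : Set X)
    rw [← closure_gp b]
    exact specializes_iff_closure_subset.1 hz1
  rcases hab.eq_or_eq hW1 hW2 with h | h
  · right
    rw [← gp_cl z, h]
  · left
    rw [← gp_cl z, h]

omit [QuasiSober X] [T0Space X] in
theorem mem_range_emb_of_subset {S : Set X} (T : IrreducibleCloseds X)
    (h : (T : Set X) ⊆ S) : T ∈ Set.range (Groth.Agent.Lib.Helper26.IrrSub.emb S) := by
  have himg : Subtype.val '' ((Subtype.val : S → X) ⁻¹' (T : Set X)) = (T : Set X) := by
    rw [Subtype.image_preimage_coe, Set.inter_eq_right.2 h]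
  have hirr : IsIrreducible ((Subtype.val : S → X) ⁻¹' (T : Set X)) := by
    apply Groth.Agent.Lib.Helper26.IrrSub.isIrreducible_of_image IsInducing.subtypeVal
    rw [himg]
    exact T.isIrreducible
  refine ⟨⟨_, hirr, T.isClosed.preimage continuous_subtype_val⟩, ?_⟩
  apply SetLike.coe_injective
  rw [Groth.Agent.Lib.Helper26.IrrSub.coe_emb]
  show closure (Subtype.val '' ((Subtype.val : S → X) ⁻¹' (T : Set X))) = _
  rw [himg, T.isClosed.closure_eq]

/-- Dimension of the closure of a point when the dimension function is bounded below by `lo`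
on the closure, with the bound attained. -/
theorem topologicalKrullDim_closure (δ : X → ℤ) (hδ : PtTop.IsDimensionFunction δ) (ξ z : X)
    (hz : ξ ⤳ z) (lo : ℤ) (hlo : ∀ y, ξ ⤳ y → lo ≤ δ y) (hzlo : δ z = lo) :
    topologicalKrullDim ↥(closure ({ξ} : Set X)) = ((δ ξ - lo).toNat : WithBot ℕ∞) := by
  unfold topologicalKrullDim
  refine krullDim_eq_of_dimfun (Groth.Agent.Lib.Helper26.IrrSub.emb (closure ({ξ} : Set X)))
    (fun T => δ (gp T)) (irr_hmono δ hδ) (irr_hcov δ hδ) lo (δ ξ) ?_ (cl z) (cl ξ)
    (specializes_iff_closure_subset.1 hz) ?_ (by rw [gp_cl, hzlo]) (by rw [gp_cl])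
  · intro T
    have hsub : (Groth.Agent.Lib.Helper26.IrrSub.emb (closure ({ξ} : Set X)) T : Set X) ⊆
        closure {ξ} := by
      rw [Groth.Agent.Lib.Helper26.IrrSub.coe_emb]
      apply closure_minimal _ isClosed_closure
      rintro _ ⟨t, _, rfl⟩
      exact t.2
    have hspec : ξ ⤳ gp (Groth.Agent.Lib.Helper26.IrrSub.emb (closure ({ξ} : Set X)) T) := by
      rw [specializes_iff_closure_subset, closure_gp]
      exact hsub
    refine ⟨hlo _ hspec, ?_⟩
    by_cases heq : ξ = gp (Groth.Agent.Lib.Helper26.IrrSub.emb (closure ({ξ} : Set X)) T)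
    · rw [← heq]
    · exact (hδ.1 _ _ hspec heq).le
  · intro T _ hT
    exact mem_range_emb_of_subset T hT

end Irr

end Groth.Agent.Lib.Helper24.DimFunKrull
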