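import Groth.Agent.Lib.Helper26.CatOrder4
import Groth.Prelude.Def_W4stktopologysheavesDim

/-! Catenary topological spaces: open embeddings, open covers, prime spectra. -/

set_option autoImplicit false

namespace Groth.Agent.Lib.Helper24.CatSpace

open TopologicalSpace Topology Groth.Agent.Lib.Helper24

universe u

theorem isCatenarySpace_iff (Y : Type u) [TopologicalSpace Y] :
    PtTop.IsCatenarySpace Y ↔ CatOrd (IrreducibleCloseds Y) :=
  Groth.Agent.Lib.Helper26.CatOrder.cat_iff_catOrd (P := IrreducibleCloseds Y)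

theorem catOrd_of_orderIso {P Q : Type u} [PartialOrder P] [PartialOrder Q] (e : P ≃o Q)
    (h : CatOrd Q) : CatOrd P := by
  refine CatOrd.of_orderEmbedding e.toOrderEmbedding ?_ h
  have : Set.range e.toOrderEmbedding = Set.univ := e.surjective.range_eq
  rw [this]
  exact Set.ordConnected_univ

/-- Reverse a series of the dual order. -/
def revSeries {P : Type u} [PartialOrder P] (s : LTSeries Pᵒᵈ) : LTSeries P :=
  LTSeries.mk s.length (fun i => OrderDual.ofDual (s (Fin.rev i))) (fun i j hij => by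
    show OrderDual.ofDual (s (Fin.rev i)) < OrderDual.ofDual (s (Fin.rev j))
    rw [OrderDual.ofDual_lt_ofDual]
    exact s.strictMono (Fin.rev_lt_rev.mpr hij))

theorem revSeries_length {P : Type u} [PartialOrder P] (s : LTSeries Pᵒᵈ) :
    (revSeries s).length = s.length := rfl

theorem revSeries_head {P : Type u} [PartialOrder P] (s : LTSeries Pᵒᵈ) :
    (revSeries s).head = OrderDual.ofDual s.last := by
  show OrderDual.ofDual (s (Fin.rev 0)) = OrderDual.ofDual (s (Fin.last _))
  rw [Fin.rev_zero]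

theorem revSeries_last {P : Type u} [PartialOrder P] (s : LTSeries Pᵒᵈ) :
    (revSeries s).last = OrderDual.ofDual s.head := by
  show OrderDual.ofDual (s (Fin.rev (Fin.last _))) = OrderDual.ofDual (s 0)
  rw [Fin.rev_last]

theorem revSeries_covBy {P : Type u} [PartialOrder P] (s : LTSeries Pᵒᵈ)
    (hs : ∀ i : Fin s.length, s (Fin.castSucc i) ⋖ s (Fin.succ i)) (i : Fin (revSeries s).length) :
    (revSeries s) (Fin.castSucc i) ⋖ (revSeries s) (Fin.succ i) := by
  show OrderDual.ofDual (s (Fin.rev (Fin.castSucc i))) ⋖ OrderDual.ofDual (s (Fin.rev (Fin.succ i)))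
  rw [ofDual_covBy_ofDual_iff, Fin.rev_castSucc, Fin.rev_succ]
  exact hs (Fin.rev i)

theorem catOrd_dual {P : Type u} [PartialOrder P] (h : CatOrd P) : CatOrd Pᵒᵈ := by
  refine ⟨fun p q hpq => ?_, fun s t hh hl hs ht => ?_⟩
  · obtain ⟨n, hn⟩ := h.1 (OrderDual.ofDual q) (OrderDual.ofDual p) hpq
    refine ⟨n, fun s hsp hsq => ?_⟩
    exact hn (revSeries s) (by rw [revSeries_head, hsq]) (by rw [revSeries_last, hsp])
  · exact h.2 (revSeries s) (revSeries t) (by rw [revSeries_head, revSeries_head, hl])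
      (by rw [revSeries_last, revSeries_last, hh]) (revSeries_covBy s hs) (revSeries_covBy t ht)

theorem catOrd_dual_iff {P : Type u} [PartialOrder P] : CatOrd Pᵒᵈ ↔ CatOrd P :=
  ⟨fun h => catOrd_of_orderIso (OrderIso.dualDual P) (catOrd_dual h), catOrd_dual⟩

section OpenEmb

variable {X Y : Type u} [TopologicalSpace X] [TopologicalSpace Y] (f : Y → X)
  (hf : IsOpenEmbedding f)

/-- The order embedding of irreducible closed sets along an open embedding. -/
noncomputable def embOfOpen : IrreducibleCloseds Y ↪o IrreducibleCloseds X :=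
  (IrreducibleCloseds.orderIsoOfIsOpenEmbedding f hf).toOrderEmbedding.trans
    (OrderEmbedding.subtype _)

theorem range_embOfOpen :
    Set.range (embOfOpen f hf) = {V : IrreducibleCloseds X | (f ⁻¹' V).Nonempty} := by
  ext V
  constructor
  · rintro ⟨T, rfl⟩
    exact ((IrreducibleCloseds.orderIsoOfIsOpenEmbedding f hf) T).2
  · intro hV
    refine ⟨(IrreducibleCloseds.orderIsoOfIsOpenEmbedding f hf).symm ⟨V, hV⟩, ?_⟩
    show (((IrreducibleCloseds.orderIsoOfIsOpenEmbedding f hf)
      ((IrreducibleCloseds.orderIsoOfIsOpenEmbedding f hf).symm ⟨V, hV⟩)) :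
        {V : IrreducibleCloseds X | (f ⁻¹' V).Nonempty}).1 = V
    rw [OrderIso.apply_symm_apply]

theorem ordConnected_range_embOfOpen : (Set.range (embOfOpen f hf)).OrdConnected := by
  rw [range_embOfOpen]
  apply IsUpperSet.ordConnected
  rintro V W hVW ⟨y, hy⟩
  exact ⟨y, hVW hy⟩

theorem mem_range_embOfOpen (V : IrreducibleCloseds X) (y : Y) (hy : f y ∈ V) :
    V ∈ Set.range (embOfOpen f hf) := by
  rw [range_embOfOpen]
  exact ⟨y, hy⟩

include hf in
theorem of_isOpenEmbedding (h : PtTop.IsCatenarySpace X) : PtTop.IsCatenarySpace Y := by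
  rw [isCatenarySpace_iff] at h ⊢
  exact CatOrd.of_orderEmbedding (embOfOpen f hf) (ordConnected_range_embOfOpen f hf) h

end OpenEmb

theorem of_openCover {X : Type u} [TopologicalSpace X]
    (H : ∀ x : X, ∃ (Y : Type u) (_ : TopologicalSpace Y) (f : Y → X), IsOpenEmbedding f ∧
      x ∈ Set.range f ∧ PtTop.IsCatenarySpace Y) : PtTop.IsCatenarySpace X := by
  rw [isCatenarySpace_iff]
  apply CatOrd.of_cover
  intro p q hpq
  obtain ⟨x, hx⟩ := p.isIrreducible.nonempty
  obtain ⟨Y, _, f, hf, ⟨y, rfl⟩, hY⟩ := H x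
  exact ⟨IrreducibleCloseds Y, inferInstance, embOfOpen f hf, ordConnected_range_embOfOpen f hf,
    (isCatenarySpace_iff Y).1 hY, mem_range_embOfOpen f hf p y hx,
    mem_range_embOfOpen f hf q y (hpq hx)⟩

theorem primeSpectrum_iff (A : Type u) [CommRing A] :
    PtTop.IsCatenarySpace (PrimeSpectrum A) ↔ CAlg.IsCatenary A := by
  rw [isCatenarySpace_iff, isCatenary_iff_catOrd]
  constructor
  · intro h
    exact catOrd_of_orderIso (PrimeSpectrum.pointsEquivIrreducibleCloseds A) (catOrd_dual h)
  · intro h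
    exact catOrd_dual_iff.1
      (catOrd_of_orderIso (PrimeSpectrum.pointsEquivIrreducibleCloseds A).symm h)

end Groth.Agent.Lib.Helper24.CatSpace
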