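import Groth.Agent.Lib.Helper24.Cat.DimFunKrull
import Groth.Agent.Lib.Helper24.Cat.StalkDim
import Groth.Agent.Lib.Helper24.Catenary
import Mathlib.Topology.JacobsonSpace
import Mathlib.AlgebraicGeometry.ResidueField
import Mathlib.AlgebraicGeometry.Properties

/-! δ-dimension equals Krull dimension on Jacobson schemes. -/

set_option autoImplicit false

namespace Groth.Agent.Lib.Helper24.JacobsonDim

open AlgebraicGeometry IsLocalRing Topology

universe u

theorem isDimensionFunction_of_isDimFun {X : Scheme.{u}} (δ : X → ℤ) (hδ : Cyc.IsDimFun X δ) :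
    PtTop.IsDimensionFunction δ :=
  ⟨fun x y h hne => (hδ x y h hne).1, fun x y h => (hδ x y h.1 h.2.1).2 h.2.2⟩

/-- the prime of `O_{X,z}` corresponding to a generization `ξ` -/
theorem fromSpecStalk_ker_specMap {X : Scheme.{u}} (z ξ : X) (h : ξ ⤳ z)
    (hp : (RingHom.ker (Cyc.specMap z ξ h)).IsPrime) :
    X.fromSpecStalk z ⟨RingHom.ker (Cyc.specMap z ξ h), hp⟩ = ξ := by
  have h1 : (⟨RingHom.ker (Cyc.specMap z ξ h), hp⟩ : PrimeSpectrum (X.presheaf.stalk z)) =
      Spec.map (X.presheaf.stalkSpecializes h) (closedPoint (X.presheaf.stalk ξ)) := by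
    apply PrimeSpectrum.ext
    show RingHom.ker (Cyc.specMap z ξ h) =
      Ideal.comap (X.presheaf.stalkSpecializes h).hom (maximalIdeal (X.presheaf.stalk ξ))
    ext a
    rw [RingHom.mem_ker, Ideal.mem_comap]
    show IsLocalRing.residue (X.presheaf.stalk ξ) ((X.presheaf.stalkSpecializes h).hom a) = 0 ↔ _
    rw [IsLocalRing.residue_eq_zero_iff]
  rw [h1, ← Scheme.Hom.comp_apply, Scheme.SpecMap_stalkSpecializes_fromSpecStalk,
    Scheme.fromSpecStalk_closedPoint]

theorem main (X : Scheme.{u}) [JacobsonSpace X] (δ : X → ℤ) (hX : Cyc.IsSetup X δ)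
    (h0 : ∀ x : X, IsClosed ({x} : Set X) → δ x = 0) (ξ : X) :
    (topologicalKrullDim ↥(closure ({ξ} : Set X)) = ((δ ξ).toNat : WithBot ℕ∞) ∧ 0 ≤ δ ξ) ∧
      ∀ (z : X) (h : ξ ⤳ z), IsClosed ({z} : Set X) →
        ringKrullDim (Cyc.LocQuot z ξ h) = ((δ ξ).toNat : WithBot ℕ∞) := by
  have hδ := isDimensionFunction_of_isDimFun δ hX.2.2
  have hweak : ∀ x y : X, x ⤳ y → δ y ≤ δ x := by
    intro x y hxy
    by_cases heq : x = y
    · rw [heq]
    · exact (hδ.1 x y hxy heq).le
  have hclosed : ∀ y : X, ∃ z : X, y ⤳ z ∧ IsClosed ({z} : Set X) := by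
    intro y
    obtain ⟨z, hz1, hz2⟩ := nonempty_inter_closedPoints (Z := closure ({y} : Set X))
      ⟨y, subset_closure rfl⟩ isClosed_closure.isLocallyClosed
    exact ⟨z, specializes_iff_mem_closure.2 hz1, hz2⟩
  have hnonneg : ∀ y : X, 0 ≤ δ y := by
    intro y
    obtain ⟨z, hz1, hz2⟩ := hclosed y
    rw [← h0 z hz2]
    exact hweak y z hz1
  refine ⟨⟨?_, hnonneg ξ⟩, fun z h hz => ?_⟩
  · obtain ⟨z, hz1, hz2⟩ := hclosed ξ
    rw [DimFunKrull.topologicalKrullDim_closure δ hδ ξ z hz1 0 (fun y _ => hnonneg y) (h0 z hz2),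
      sub_zero]
  · have hp : (RingHom.ker (Cyc.specMap z ξ h)).IsPrime := RingHom.ker_isPrime _
    have hkey := fromSpecStalk_ker_specMap z ξ h hp
    have hmono' : ∀ a b : PrimeSpectrum (X.presheaf.stalk z), a < b →
        - δ (X.fromSpecStalk z a) < - δ (X.fromSpecStalk z b) := by
      intro a b hab
      have := StalkDim.hmono δ hX.2.2 z a b hab
      omega
    have hmono'' : ∀ a b : PrimeSpectrum (X.presheaf.stalk z), a ≤ b →
        - δ (X.fromSpecStalk z a) ≤ - δ (X.fromSpecStalk z b) := by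
      intro a b hab
      rcases eq_or_lt_of_le hab with h | h
      · rw [h]
      · exact (hmono' a b h).le
    have hcov' : ∀ a b : PrimeSpectrum (X.presheaf.stalk z), a ⋖ b →
        - δ (X.fromSpecStalk z b) = - δ (X.fromSpecStalk z a) + 1 := by
      intro a b hab
      have := StalkDim.hcov δ hX.2.2 z a b hab
      omega
    have hle : ∀ p : PrimeSpectrum (X.presheaf.stalk z), p ≤ closedPoint (X.presheaf.stalk z) :=
      fun p => (PrimeSpectrum.le_iff_specializes _ _).2 (specializes_closedPoint p)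
    have hres := DimFunKrull.krullDim_eq_of_dimfun
      (quotOrderEmbedding (RingHom.ker (Cyc.specMap z ξ h)))
      (fun q => - δ (X.fromSpecStalk z q)) hmono' hcov' (- δ ξ) 0
      (by
        intro q
        have hq : quotOrderEmbedding (RingHom.ker (Cyc.specMap z ξ h)) q ∈
            Set.range (quotOrderEmbedding (RingHom.ker (Cyc.specMap z ξ h))) :=
          Set.mem_range_self q
        rw [range_quotOrderEmbedding, PrimeSpectrum.mem_zeroLocus] at hq
        constructor
        · have := hmono'' ⟨RingHom.ker (Cyc.specMap z ξ h), hp⟩ _ hq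
          rw [hkey] at this
          exact this
        · have := hmono'' _ _ (hle (quotOrderEmbedding (RingHom.ker (Cyc.specMap z ξ h)) q))
          rw [Scheme.fromSpecStalk_closedPoint, h0 z hz] at this
          simpa using this)
      ⟨RingHom.ker (Cyc.specMap z ξ h), hp⟩ (closedPoint (X.presheaf.stalk z)) (hle _)
      (by
        intro x hx _
        rw [range_quotOrderEmbedding, PrimeSpectrum.mem_zeroLocus]
        exact hx)
      (by
        show - δ (X.fromSpecStalk z ⟨RingHom.ker (Cyc.specMap z ξ h), hp⟩) = - δ ξ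
        rw [hkey])
      (by
        show - δ (X.fromSpecStalk z (closedPoint (X.presheaf.stalk z))) = 0
        rw [Scheme.fromSpecStalk_closedPoint, h0 z hz, neg_zero])
    show Order.krullDim (PrimeSpectrum (X.presheaf.stalk z ⧸ RingHom.ker (Cyc.specMap z ξ h))) = _
    rw [hres]
    congr 2
    omega

end Groth.Agent.Lib.Helper24.JacobsonDim
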