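import Groth.Agent.Lib.Helper24.Cat.JacobsonDim

/-! Dimension of `O_{X,z}/𝔭_ξ` in terms of a dimension function. -/

set_option autoImplicit false

namespace Groth.Agent.Lib.Helper24.LocQuotDim

open AlgebraicGeometry IsLocalRing Topology

universe u

theorem ringKrullDim_locQuot (X : Scheme.{u}) (δ : X → ℤ) (hδ : Cyc.IsDimFun X δ) (z ξ : X)
    (h : ξ ⤳ z) :
    ringKrullDim (Cyc.LocQuot z ξ h) = ((δ ξ - δ z).toNat : WithBot ℕ∞) := by
  have hp : (RingHom.ker (Cyc.specMap z ξ h)).IsPrime := RingHom.ker_isPrime _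
  have hkey := JacobsonDim.fromSpecStalk_ker_specMap z ξ h hp
  have hmono' : ∀ a b : PrimeSpectrum (X.presheaf.stalk z), a < b →
      - δ (X.fromSpecStalk z a) < - δ (X.fromSpecStalk z b) := by
    intro a b hab
    have := StalkDim.hmono δ hδ z a b hab
    omega
  have hmono'' : ∀ a b : PrimeSpectrum (X.presheaf.stalk z), a ≤ b →
      - δ (X.fromSpecStalk z a) ≤ - δ (X.fromSpecStalk z b) := by
    intro a b hab
    rcases eq_or_lt_of_le hab with h | h
    · rw [h]
    · exact (hmono' a b h).le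
  have hcov' : ∀ a b : PrimeSpectrum (X.presheaf.stalk z), a ⋖ b →
      - δ (X.fromSpecStalk z b) = - δ (X.fromSpecStalk z a) + 1 := by
    intro a b hab
    have := StalkDim.hcov δ hδ z a b hab
    omega
  have hle : ∀ p : PrimeSpectrum (X.presheaf.stalk z), p ≤ closedPoint (X.presheaf.stalk z) :=
    fun p => (PrimeSpectrum.le_iff_specializes _ _).2 (specializes_closedPoint p)
  have hres := DimFunKrull.krullDim_eq_of_dimfun
    (quotOrderEmbedding (RingHom.ker (Cyc.specMap z ξ h)))
    (fun q => - δ (X.fromSpecStalk z q)) hmono' hcov' (- δ ξ) (- δ z)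
    (by
      intro q
      have hq : quotOrderEmbedding (RingHom.ker (Cyc.specMap z ξ h)) q ∈
          Set.range (quotOrderEmbedding (RingHom.ker (Cyc.specMap z ξ h))) :=
        Set.mem_range_self q
      rw [range_quotOrderEmbedding, PrimeSpectrum.mem_zeroLocus] at hq
      constructor
      · have := hmono'' ⟨RingHom.ker (Cyc.specMap z ξ h), hp⟩ _ hq
        rw [hkey] at this
        exact this
      · have := hmono'' _ _ (hle (quotOrderEmbedding (RingHom.ker (Cyc.specMap z ξ h)) q))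
        rw [Scheme.fromSpecStalk_closedPoint] at this
        exact this)
    ⟨RingHom.ker (Cyc.specMap z ξ h), hp⟩ (closedPoint (X.presheaf.stalk z)) (hle _)
    (by
      intro x hx _
      rw [range_quotOrderEmbedding, PrimeSpectrum.mem_zeroLocus]
      exact hx)
    (by
      show - δ (X.fromSpecStalk z ⟨RingHom.ker (Cyc.specMap z ξ h), hp⟩) = - δ ξ
      rw [hkey])
    (by
      show - δ (X.fromSpecStalk z (closedPoint (X.presheaf.stalk z))) = - δ z
      rw [Scheme.fromSpecStalk_closedPoint])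
  show Order.krullDim (PrimeSpectrum (X.presheaf.stalk z ⧸ RingHom.ker (Cyc.specMap z ξ h))) = _
  rw [hres]
  congr 2
  omega

/-- The prime of a maximal point is a minimal prime. -/
theorem ker_specMap_mem_minimalPrimes (X : Scheme.{u}) (z ξ : X) (h : ξ ⤳ z)
    (hξ : ∀ ξ' : X, ξ' ⤳ ξ → ξ' = ξ) :
    RingHom.ker (Cyc.specMap z ξ h) ∈ minimalPrimes (X.presheaf.stalk z) := by
  have hp : (RingHom.ker (Cyc.specMap z ξ h)).IsPrime := RingHom.ker_isPrime _
  have hkey := JacobsonDim.fromSpecStalk_ker_specMap z ξ h hp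
  refine ⟨⟨hp, bot_le⟩, fun q hq hqp => ?_⟩
  haveI := hq.1
  have h1 : X.fromSpecStalk z ⟨q, hq.1⟩ ⤳
      X.fromSpecStalk z ⟨RingHom.ker (Cyc.specMap z ξ h), hp⟩ :=
    StalkDim.specializes_map z (p := ⟨q, hq.1⟩) (q := ⟨RingHom.ker (Cyc.specMap z ξ h), hp⟩) hqp
  rw [hkey] at h1
  have h2 := hξ _ h1
  rw [← hkey] at h2
  have h3 := (X.fromSpecStalk z).isEmbedding.injective h2
  have h4 : q = RingHom.ker (Cyc.specMap z ξ h) := congrArg PrimeSpectrum.asIdeal h3
  rw [h4]

end Groth.Agent.Lib.Helper24.LocQuotDim
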