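import Groth.Agent.Lib.Helper26.CatOrder4
import Groth.Agent.Lib.Helper26.CatOrder2

/-! Local dimension functions on catenary partial orders. -/

set_option autoImplicit false

namespace Groth.Agent.Lib.Helper24.DimFunOrder

open Groth.Agent.Lib.Helper24 Groth.Agent.Lib.Helper26.CatOrder

universe u

variable {P : Type u} [PartialOrder P]

/-- natural-number codimension -/
noncomputable def c (a b : P) : ℕ := (cod a b).toNat

lemma c_add (hfin : ∀ a b : P, a ≤ b → cod a b ≠ ⊤)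
    (hadd : ∀ a b c : P, a ≤ b → b ≤ c → cod a c = cod a b + cod b c) {x y z : P}
    (hxy : x ≤ y) (hyz : y ≤ z) : c x z = c x y + c y z := by
  unfold c
  rw [hadd x y z hxy hyz, ENat.toNat_add (hfin x y hxy) (hfin y z hyz)]

lemma c_pos (hfin : ∀ a b : P, a ≤ b → cod a b ≠ ⊤) {x y : P} (h : x < y) : 1 ≤ c x y := by
  have h1 : ((pair h).length : ℕ∞) ≤ cod x y := le_cod (pair h) (pair_head h) (pair_last h).le
  rw [pair_length] at h1
  unfold c
  obtain ⟨n, hn⟩ := ENat.ne_top_iff_exists.1 (hfin x y h.le)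
  rw [← hn] at h1 ⊢
  rw [ENat.toNat_coe]
  exact_mod_cast h1

lemma c_covBy {x y : P} (h : x ⋖ y) : c x y = 1 := by
  unfold c
  rw [cod_covBy h]
  rfl

theorem exists_dimfun (hcat : CatOrd P) (M : Set P) (p₀ : P) (U : Set P)
    (H1 : ∀ y : P, ∃ m ∈ M, m ≤ y)
    (H2 : ∀ y ∈ U, ∀ m ∈ M, m ≤ y → m ≤ p₀)
    (H3 : ∀ y ∈ U, ∀ m ∈ M, ∀ m' ∈ M, m ≤ y → m' ≤ y →
      ∃ r, m ≤ r ∧ m' ≤ r ∧ r ≤ y ∧ r ≤ p₀) :
    ∃ δ : P → ℤ, (∀ x ∈ U, ∀ y ∈ U, x < y → δ y < δ x) ∧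
      (∀ x ∈ U, ∀ y ∈ U, x ⋖ y → δ x = δ y + 1) := by
  obtain ⟨hfin, hadd⟩ := cat_iff.1 (cat_iff_catOrd.2 hcat)
  choose m hmM hmle using H1
  let δ : P → ℤ := fun y => (c (m y) p₀ : ℤ) - c (m y) y
  have wd : ∀ y ∈ U, ∀ m' ∈ M, m' ≤ y → δ y = (c m' p₀ : ℤ) - c m' y := by
    intro y hy m' hm' hm'y
    obtain ⟨r, h1, h2, h3, h4⟩ := H3 y hy (m y) (hmM y) m' hm' (hmle y) hm'y
    have e1 := c_add hfin hadd h1 h4
    have e2 := c_add hfin hadd h1 h3
    have e3 := c_add hfin hadd h2 h4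
    have e4 := c_add hfin hadd h2 h3
    show (c (m y) p₀ : ℤ) - c (m y) y = (c m' p₀ : ℤ) - c m' y
    rw [e1, e2, e3, e4]
    push_cast
    ring
  have key : ∀ x ∈ U, ∀ y ∈ U, x < y → δ x = δ y + c x y := by
    intro x _ y hy hxy
    have e1 := wd y hy (m x) (hmM x) ((hmle x).trans hxy.le)
    have e2 := c_add hfin hadd (hmle x) hxy.le
    rw [e1]
    show (c (m x) p₀ : ℤ) - c (m x) x = (c (m x) p₀ : ℤ) - c (m x) y + c x y
    rw [e2]
    push_cast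
    ring
  refine ⟨δ, fun x hx y hy hxy => ?_, fun x hx y hy hxy => ?_⟩
  · have := key x hx y hy hxy
    have h1 := c_pos hfin hxy
    omega
  · have := key x hx y hy hxy.lt
    rw [c_covBy hxy] at this
    exact_mod_cast this

end Groth.Agent.Lib.Helper24.DimFunOrder
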