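import Groth.Agent.Lib.Helper24.Cat.Space
import Mathlib.AlgebraicGeometry.AffineScheme

/-! Catenary schemes and affine opens. -/

set_option autoImplicit false

namespace Groth.Agent.Lib.Helper24.CatScheme

open AlgebraicGeometry Topology

universe u

theorem affine_of_space (S : Scheme.{u}) (h : PtTop.IsCatenarySpace S) (U : S.affineOpens) :
    CAlg.IsCatenary Γ(S, U) := by
  rw [← CatSpace.primeSpectrum_iff]
  exact CatSpace.of_isOpenEmbedding (X := S) (Y := PrimeSpectrum Γ(S, U)) (U.2.fromSpec)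
    (U.2.fromSpec.isOpenEmbedding) h

theorem space_of_cover (S : Scheme.{u})
    (H : ∀ s : S, ∃ U : S.affineOpens, s ∈ (U : S.Opens) ∧ CAlg.IsCatenary Γ(S, U)) :
    PtTop.IsCatenarySpace S := by
  apply CatSpace.of_openCover
  intro x
  obtain ⟨U, hxU, hU⟩ := H x
  refine ⟨PrimeSpectrum Γ(S, U), inferInstance, U.2.fromSpec, U.2.fromSpec.isOpenEmbedding, ?_,
    (CatSpace.primeSpectrum_iff _).2 hU⟩
  have := IsAffineOpen.range_fromSpec (U := U.1) U.2
  exact this ▸ hxU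

theorem exists_affine (S : Scheme.{u}) (s : S) : ∃ U : S.affineOpens, s ∈ (U : S.Opens) := by
  obtain ⟨W, hW, hsW, -⟩ := exists_isAffineOpen_mem_and_subset (x := s) (U := ⊤) trivial
  exact ⟨⟨W, hW⟩, hsW⟩

theorem main (S : Scheme.{u}) :
    (PtTop.IsCatenarySpace S ↔ ∀ U : S.affineOpens, CAlg.IsCatenary Γ(S, U)) ∧
    (PtTop.IsCatenarySpace S ↔
      ∀ s : S, ∃ U : S.affineOpens, s ∈ (U : S.Opens) ∧ CAlg.IsCatenary Γ(S, U)) := by
  refine ⟨⟨affine_of_space S, fun H => space_of_cover S fun s => ?_⟩,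
    ⟨fun h s => ?_, space_of_cover S⟩⟩
  · obtain ⟨U, hU⟩ := exists_affine S s
    exact ⟨U, hU, H U⟩
  · obtain ⟨U, hU⟩ := exists_affine S s
    exact ⟨U, hU, affine_of_space S h U⟩

end Groth.Agent.Lib.Helper24.CatScheme
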