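import Groth.Agent.Lib.Helper24.Cat.DimFunSpec
import Groth.Agent.Lib.Helper24.Cat.SchemeCat
import Groth.Agent.S7577
import Groth.Agent.S12444
import Mathlib.AlgebraicGeometry.Noetherian
import Mathlib.AlgebraicGeometry.Properties

/-! Catenary locally Noetherian schemes have local dimension functions. -/

set_option autoImplicit false

namespace Groth.Agent.Lib.Helper24.DimFunScheme

open AlgebraicGeometry Topology TopologicalSpace

universe u

theorem transport {X Y : Type u} [TopologicalSpace X] [TopologicalSpace Y] (f : Y → X)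
    (hf : IsOpenEmbedding f) (V : Set Y) (hV : IsOpen V) (δ : Y → ℤ)
    (ha : ∀ a ∈ V, ∀ b ∈ V, a ⤳ b → a ≠ b → δ b < δ a)
    (hb : ∀ a ∈ V, ∀ b ∈ V, a ⤳ b → a ≠ b → (∀ z, a ⤳ z → z ⤳ b → z = a ∨ z = b) →
      δ a = δ b + 1) :
    ∃ δ' : (⟨f '' V, hf.isOpenMap V hV⟩ : Opens X) → ℤ, PtTop.IsDimensionFunction δ' := by
  have hex : ∀ x : (⟨f '' V, hf.isOpenMap V hV⟩ : Opens X), ∃ a, a ∈ V ∧ f a = x.1 := fun x => x.2
  choose g hgV hg using hex
  have hspec : ∀ x y : (⟨f '' V, hf.isOpenMap V hV⟩ : Opens X), x ⤳ y → g x ⤳ g y := by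
    intro x y hxy
    rw [subtype_specializes_iff] at hxy
    rw [← hf.isInducing.specializes_iff, hg, hg]
    exact hxy
  have hne : ∀ x y : (⟨f '' V, hf.isOpenMap V hV⟩ : Opens X), x ≠ y → g x ≠ g y := by
    intro x y hxy h
    apply hxy
    apply Subtype.ext
    rw [← hg x, ← hg y, h]
  refine ⟨fun x => δ (g x), fun x y hxy hne' => ?_, fun x y hxy => ?_⟩
  · exact ha _ (hgV x) _ (hgV y) (hspec x y hxy) (hne x y hne')
  · obtain ⟨h1, h2, h3⟩ := hxy
    refine hb _ (hgV x) _ (hgV y) (hspec x y h1) (hne x y h2) fun z hz1 hz2 => ?_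
    have hzV : z ∈ V := hz2.mem_open hV (hgV y)
    have hx : x ⤳ (⟨f z, z, hzV, rfl⟩ : (⟨f '' V, hf.isOpenMap V hV⟩ : Opens X)) := by
      rw [subtype_specializes_iff]
      show x.1 ⤳ f z
      rw [← hg x, hf.isInducing.specializes_iff]
      exact hz1
    have hy : (⟨f z, z, hzV, rfl⟩ : (⟨f '' V, hf.isOpenMap V hV⟩ : Opens X)) ⤳ y := by
      rw [subtype_specializes_iff]
      show f z ⤳ y.1
      rw [← hg y, hf.isInducing.specializes_iff]
      exact hz2
    rcases h3 _ hx hy with h | h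
    · left
      apply hf.injective
      rw [hg x, ← h]
    · right
      apply hf.injective
      rw [hg y, ← h]

theorem forward (S : Scheme.{u}) [IsLocallyNoetherian S] (h : PtTop.IsCatenarySpace S) (s : S) :
    ∃ U : S.Opens, s ∈ U ∧ ∃ δ : U → ℤ, PtTop.IsDimensionFunction δ := by
  obtain ⟨W, hsW⟩ := CatScheme.exists_affine S s
  haveI : IsNoetherianRing Γ(S, W) := IsLocallyNoetherian.component_noetherian W
  have hA := CatScheme.affine_of_space S h W
  have hrange := IsAffineOpen.range_fromSpec (U := W.1) W.2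
  have hs' : s ∈ Set.range W.2.fromSpec := by
    rw [hrange]
    exact hsW
  obtain ⟨p₀, hp₀⟩ := hs'
  obtain ⟨V, δ, hV, hp₀V, h1, h2⟩ := DimFunSpec.exists_open_dimfun Γ(S, W) hA p₀
  obtain ⟨δ', hδ'⟩ := transport (X := S) (Y := PrimeSpectrum Γ(S, W)) W.2.fromSpec
    W.2.fromSpec.isOpenEmbedding V hV δ
    (fun a haV b hbV hab hne => h1 a haV b hbV
      (lt_of_le_of_ne ((PrimeSpectrum.le_iff_specializes a b).2 hab) hne))
    (fun a haV b hbV hab hne hz => h2 a haV b hbV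
      ⟨lt_of_le_of_ne ((PrimeSpectrum.le_iff_specializes a b).2 hab) hne, fun c hac hcb => by
        rcases hz c ((PrimeSpectrum.le_iff_specializes a c).1 hac.le)
          ((PrimeSpectrum.le_iff_specializes c b).1 hcb.le) with h | h
        · exact hac.ne' h
        · exact hcb.ne h⟩)
  exact ⟨⟨W.2.fromSpec '' V, W.2.fromSpec.isOpenEmbedding.isOpenMap V hV⟩, ⟨p₀, hp₀V, hp₀⟩,
    δ', hδ'⟩

theorem backward (S : Scheme.{u})
    (H : ∀ s : S, ∃ U : S.Opens, s ∈ U ∧ ∃ δ : U → ℤ, PtTop.IsDimensionFunction δ) :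
    PtTop.IsCatenarySpace S := by
  rw [(Groth.Agent.S12444.result S).1]
  intro s
  obtain ⟨U, hsU, δ, hδ⟩ := H s
  have h1 : QuasiSober U := Topology.IsOpenEmbedding.quasiSober U.isOpenEmbedding'
  have h2 : T0Space U := inferInstance
  exact ⟨U, hsU, (@Groth.Agent.S7577.result U _ h1 h2 δ hδ).1⟩

theorem main (S : Scheme.{u}) [IsLocallyNoetherian S] :
    PtTop.IsCatenarySpace S ↔
      ∀ s : S, ∃ U : S.Opens, s ∈ U ∧ ∃ δ : U → ℤ, PtTop.IsDimensionFunction δ :=
  ⟨forward S, backward S⟩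

end Groth.Agent.Lib.Helper24.DimFunScheme
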