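import Groth.Agent.Lib.Helper24.Cat.DimFunOrder
import Mathlib.RingTheory.Ideal.MinimalPrime.Noetherian

/-! Local dimension functions on spectra of Noetherian catenary rings. -/

set_option autoImplicit false

namespace Groth.Agent.Lib.Helper24.DimFunSpec

open Groth.Agent.Lib.Helper24 PrimeSpectrum

universe u

theorem exists_open_dimfun (A : Type u) [CommRing A] [IsNoetherianRing A]
    (hA : CAlg.IsCatenary A) (p₀ : PrimeSpectrum A) :
    ∃ (U : Set (PrimeSpectrum A)) (δ : PrimeSpectrum A → ℤ), IsOpen U ∧ p₀ ∈ U ∧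
      (∀ x ∈ U, ∀ y ∈ U, x < y → δ y < δ x) ∧
      (∀ x ∈ U, ∀ y ∈ U, x ⋖ y → δ x = δ y + 1) := by
  classical
  let Big : Set (Ideal A) := minimalPrimes A ∪
    ⋃ m ∈ minimalPrimes A, ⋃ m' ∈ minimalPrimes A, (m ⊔ m').minimalPrimes
  have hBig : Big.Finite := by
    apply Set.Finite.union (minimalPrimes.finite_of_isNoetherianRing A)
    apply Set.Finite.biUnion (minimalPrimes.finite_of_isNoetherianRing A)
    intro m _
    apply Set.Finite.biUnion (minimalPrimes.finite_of_isNoetherianRing A)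
    intro m' _
    exact Ideal.finite_minimalPrimes_of_isNoetherianRing A _
  let Bad : Set (Ideal A) := {I | I ∈ Big ∧ ¬ I ≤ p₀.asIdeal}
  have hBad : Bad.Finite := hBig.subset (fun I hI => hI.1)
  let C : Set (PrimeSpectrum A) := ⋃ I ∈ Bad, zeroLocus (I : Set A)
  have hC : IsClosed C := hBad.isClosed_biUnion (fun I _ => isClosed_zeroLocus _)
  have hmemC : ∀ (y : PrimeSpectrum A) (I : Ideal A), I ∈ Big → I ≤ y.asIdeal → y ∉ C →
      I ≤ p₀.asIdeal := by
    intro y I hI hIy hy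
    by_contra hcon
    apply hy
    simp only [C, Set.mem_iUnion]
    exact ⟨I, ⟨hI, hcon⟩, (mem_zeroLocus _ _).2 hIy⟩
  have hp₀ : p₀ ∈ Cᶜ := by
    intro hp
    simp only [C, Set.mem_iUnion] at hp
    obtain ⟨I, hI, hp⟩ := hp
    exact hI.2 ((mem_zeroLocus _ _).1 hp)
  let M : Set (PrimeSpectrum A) := {m | m.asIdeal ∈ minimalPrimes A}
  obtain ⟨δ, h1, h2⟩ := DimFunOrder.exists_dimfun (P := PrimeSpectrum A) hA M p₀ Cᶜ
    (by
      intro y
      obtain ⟨p, hp, hpy⟩ := Ideal.exists_minimalPrimes_le (I := ⊥) (J := y.asIdeal) bot_le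
      exact ⟨⟨p, hp.1.1⟩, hp, hpy⟩)
    (by
      intro y hy m hm hmy
      exact hmemC y m.asIdeal (Or.inl hm) hmy hy)
    (by
      intro y hy m hm m' hm' hmy hm'y
      obtain ⟨r, hr, hry⟩ := Ideal.exists_minimalPrimes_le (I := m.asIdeal ⊔ m'.asIdeal)
        (J := y.asIdeal) (sup_le hmy hm'y)
      have hrBig : r ∈ Big := by
        refine Or.inr ?_
        simp only [Set.mem_iUnion]
        exact ⟨m.asIdeal, hm, m'.asIdeal, hm', hr⟩
      exact ⟨⟨r, hr.1.1⟩, le_sup_left.trans hr.1.2, le_sup_right.trans hr.1.2, hry,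
        hmemC y r hrBig hry hy⟩)
  exact ⟨Cᶜ, δ, hC.isOpen_compl, hp₀, h1, h2⟩

end Groth.Agent.Lib.Helper24.DimFunSpec
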