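import Mathlib.RingTheory.Ideal.KrullsHeightTheorem
import Mathlib.RingTheory.KrullDimension.Basic

/-! A local Noetherian domain with a nonzero nonunit `g` such that `R/(g)` is zero-dimensional
has dimension one. -/

set_option autoImplicit false

namespace Groth.Agent.Lib.Helper24.DimOnePIT

universe u

theorem main (R : Type u) [CommRing R] [IsDomain R] [IsNoetherianRing R] [IsLocalRing R]
    (g : R) (hg0 : g ≠ 0) (hgm : g ∈ IsLocalRing.maximalIdeal R)
    (hdim : ringKrullDim (R ⧸ Ideal.span {g}) = 0) : ringKrullDim R = 1 := by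
  rw [← IsLocalRing.maximalIdeal_height_eq_ringKrullDim]
  have hle : Ideal.span {g} ≤ IsLocalRing.maximalIdeal R := by
    rw [Ideal.span_singleton_le_iff_mem]
    exact hgm
  haveI : Ring.KrullDimLE 0 (R ⧸ Ideal.span {g}) := by
    rw [Ring.krullDimLE_iff, hdim]
    rfl
  have hmin : IsLocalRing.maximalIdeal R ∈ (Ideal.span {g}).minimalPrimes := by
    refine ⟨⟨inferInstance, hle⟩, fun q hq _ => ?_⟩
    haveI := hq.1
    -- `q` is maximal since its image in the quotient is prime hence maximal
    have hqmax : q.IsMaximal := by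
      have h1 : (q.map (Ideal.Quotient.mk (Ideal.span {g}))).IsPrime :=
        Ideal.map_isPrime_of_surjective Ideal.Quotient.mk_surjective
          (by rw [Ideal.mk_ker]; exact hq.2)
      have h2 : (q.map (Ideal.Quotient.mk (Ideal.span {g}))).IsMaximal :=
        Ideal.isMaximal_of_isPrime _
      have h3 := Ideal.comap_isMaximal_of_surjective (Ideal.Quotient.mk (Ideal.span {g}))
        Ideal.Quotient.mk_surjective (K := q.map (Ideal.Quotient.mk (Ideal.span {g})))
      rwa [Ideal.comap_map_of_surjective _ Ideal.Quotient.mk_surjective,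
        ← RingHom.ker_eq_comap_bot, Ideal.mk_ker, sup_eq_left.2 hq.2] at h3
    rw [IsLocalRing.eq_maximalIdeal hqmax]
  have h1 : (IsLocalRing.maximalIdeal R).height ≤ 1 :=
    Ideal.height_le_one_of_isPrincipal_of_mem_minimalPrimes (Ideal.span {g}) _ hmin
  have h2 : (IsLocalRing.maximalIdeal R).height ≠ 0 := by
    rw [Ne, Ideal.height_eq_zero_iff_eq_bot]
    intro h
    rw [h] at hgm
    exact hg0 (by simpa using hgm)
  have h3 : (IsLocalRing.maximalIdeal R).height = 1 :=
    le_antisymm h1 (Order.one_le_iff_pos.2 (pos_iff_ne_zero.2 h2))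
  rw [h3]
  rfl

end Groth.Agent.Lib.Helper24.DimOnePIT
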