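import Groth.Prelude.Def_Cyc
import Groth.Agent.Lib.Helper24.Cat.SchemeCat
import Mathlib.AlgebraicGeometry.Noetherian
import Mathlib.RingTheory.Ideal.MinimalPrime.Noetherian

/-! Locally constant dimension of irreducible components. -/

set_option autoImplicit false

namespace Groth.Agent.Lib.Helper24.LocConstDim

open AlgebraicGeometry Topology PrimeSpectrum

universe u

theorem main (X : Scheme.{u}) (δ : X → ℤ) (hX : Cyc.IsSetup X δ)
    (h3 : ∀ x : X, ∃ n : ℤ, ∀ ξ : X, (∀ ξ' : X, ξ' ⤳ ξ → ξ' = ξ) → ξ ⤳ x → δ ξ = n) :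
    ∃ c : X → ℤ, IsLocallyConstant c ∧ ∀ ξ : X, (∀ ξ' : X, ξ' ⤳ ξ → ξ' = ξ) → δ ξ = c ξ := by
  haveI := hX.1
  choose c hc using h3
  refine ⟨c, ?_, fun ξ hξ => hc ξ ξ hξ specializes_rfl⟩
  rw [IsLocallyConstant.iff_exists_open]
  intro x
  obtain ⟨W, hxW⟩ := CatScheme.exists_affine X x
  haveI : IsNoetherianRing Γ(X, W) := IsLocallyNoetherian.component_noetherian W
  have hrange := IsAffineOpen.range_fromSpec (U := W.1) W.2
  have hemb := W.2.fromSpec.isOpenEmbedding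
  have hx' : x ∈ Set.range W.2.fromSpec := by
    rw [hrange]
    exact hxW
  obtain ⟨px, hpx⟩ := hx'
  let Bad : Set (Ideal Γ(X, W)) := {q | q ∈ minimalPrimes Γ(X, W) ∧ ¬ q ≤ px.asIdeal}
  have hBad : Bad.Finite :=
    (minimalPrimes.finite_of_isNoetherianRing Γ(X, W)).subset (fun q hq => hq.1)
  let C : Set (PrimeSpectrum Γ(X, W)) := ⋃ q ∈ Bad, zeroLocus (q : Set Γ(X, W))
  have hC : IsClosed C := hBad.isClosed_biUnion (fun q _ => isClosed_zeroLocus _)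
  have hpxC : px ∈ Cᶜ := by
    intro hp
    simp only [C, Set.mem_iUnion] at hp
    obtain ⟨q, hq, hp⟩ := hp
    exact hq.2 ((mem_zeroLocus _ _).1 hp)
  refine ⟨W.2.fromSpec '' Cᶜ, hemb.isOpenMap _ hC.isOpen_compl, ⟨px, hpxC, hpx⟩, ?_⟩
  rintro x' ⟨p', hp'C, rfl⟩
  obtain ⟨q, hq, hqp'⟩ := Ideal.exists_minimalPrimes_le (I := ⊥) (J := p'.asIdeal) bot_le
  have hqpx : q ≤ px.asIdeal := by
    by_contra hcon
    apply hp'C
    exact Set.mem_biUnion (show q ∈ Bad from ⟨hq, hcon⟩) ((mem_zeroLocus _ _).2 hqp')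
  haveI : q.IsPrime := hq.1.1
  let Q : PrimeSpectrum Γ(X, W) := ⟨q, hq.1.1⟩
  have hmax : ∀ ξ' : X, ξ' ⤳ W.2.fromSpec Q → ξ' = W.2.fromSpec Q := by
    intro ξ' hξ'
    have hmem : ξ' ∈ Set.range W.2.fromSpec :=
      hξ'.mem_open hemb.isOpen_range (Set.mem_range_self Q)
    obtain ⟨q', rfl⟩ := hmem
    rw [hemb.isInducing.specializes_iff] at hξ'
    have hle : @LE.le (PrimeSpectrum Γ(X, W)) _ q' Q :=
      (PrimeSpectrum.le_iff_specializes _ _).2 hξ'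
    have hge : q ≤ q'.asIdeal := hq.2 ⟨q'.2, bot_le⟩ hle
    have : q' = Q := PrimeSpectrum.ext (le_antisymm hle hge)
    rw [this]
  have h1 : W.2.fromSpec Q ⤳ W.2.fromSpec p' :=
    ((PrimeSpectrum.le_iff_specializes Q p').1 hqp').map W.2.fromSpec.continuous
  have h2 : W.2.fromSpec Q ⤳ x := by
    rw [← hpx]
    exact ((PrimeSpectrum.le_iff_specializes Q px).1 hqpx).map W.2.fromSpec.continuous
  rw [← hc _ _ hmax h1, ← hc _ _ hmax h2]

end Groth.Agent.Lib.Helper24.LocConstDim
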